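import Cfsg.Agent.H263.FF.Min

/-!
# FF-modules: the chief factor of a minimal pair, any prime
-/

set_option autoImplicit false
set_option linter.unusedSectionVars false

namespace Cfsg.Agent.H263.FF.Chief

open Cfsg.Agent.H263.FF.Basic Cfsg.Agent.H263.FF.Setup Cfsg.Agent.H263.FF.Frat Cfsg.Agent.H263.FF.Conf
open Cfsg.Agent.H263.FF.Min
open scoped Pointwise

variable {p : ℕ} [hp : Fact p.Prime]
variable {X : Type*} [Group X] [Finite X] {V : Type*} [AddCommGroup V] [Finite V] [DistribMulAction X V]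

/-- invariant under `Y` -/
def Iv (Y : Subgroup X) (H : AddSubgroup V) : Prop := ∀ y ∈ Y, ∀ v ∈ H, y • v ∈ H

/-- `{y ∈ Y | y v - v ∈ K}` -/
def sb (Y : Subgroup X) (K : AddSubgroup V) (hK : Iv Y K) (v : V) : Subgroup X where
  carrier := {y | y ∈ Y ∧ y • v - v ∈ K}
  one_mem' := ⟨Y.one_mem, by rw [one_smul, sub_self]; exact K.zero_mem⟩
  mul_mem' := fun {y z} hy hz => ⟨Y.mul_mem hy.1 hz.1, by
    have h1 := K.add_mem (hK y hy.1 _ hz.2) hy.2
    have e : (y * z) • v - v = y • (z • v - v) + (y • v - v) := by rw [mul_smul, smul_sub]; abel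
    rw [e]; exact h1⟩
  inv_mem' := fun {y} hy => ⟨Y.inv_mem hy.1, by
    have h1 := K.neg_mem (hK _ (Y.inv_mem hy.1) _ hy.2)
    have e : y⁻¹ • v - v = -(y⁻¹ • (y • v - v)) := by rw [smul_sub, inv_smul_smul]; abel
    rw [e]; exact h1⟩

/-- if the `p'`-elements and a Sylow `p`-subgroup of `Y` lie in `P` then `Y ≤ P` -/
theorem le_of_p' {Y P : Subgroup X} (hodd : ∀ y ∈ Y, ¬ p ∣ orderOf y → y ∈ P) (T : Sylow p Y)
    (hT : ∀ t ∈ (T : Subgroup Y), (t : X) ∈ P) : Y ≤ P := by
  classical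
  let K : Subgroup Y := Subgroup.closure {y | ¬ p ∣ orderOf y}
  have hKn : K.Normal := by
    constructor
    intro k hk g
    have : K ≤ K.comap (MulAut.conj g).toMonoidHom := by
      rw [Subgroup.closure_le]
      intro y hy
      apply Subgroup.subset_closure
      change ¬ p ∣ orderOf ((MulAut.conj g) y)
      rw [MulEquiv.orderOf_eq]; exact hy
    exact this hk
  have hQ : IsPGroup p (Y ⧸ K) := by
    intro q
    induction q using QuotientGroup.induction_on with
    | H y =>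
      obtain ⟨k, m, hm, e⟩ := Nat.exists_eq_pow_mul_and_not_dvd (orderOf_pos y).ne' p hp.out.ne_one
      have hpk : 0 < p ^ k := pow_pos hp.out.pos k
      refine ⟨k, ?_⟩
      rw [← QuotientGroup.mk_pow, QuotientGroup.eq_one_iff]
      apply Subgroup.subset_closure
      change ¬ p ∣ orderOf (y ^ p ^ k)
      rw [orderOf_pow_of_dvd hpk.ne' (by rw [e]; exact dvd_mul_right _ _), e,
        Nat.mul_div_cancel_left _ hpk]
      exact hm
  obtain ⟨j, hj⟩ := IsPGroup.iff_card.1 hQ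
  have hKi : K.index = p ^ j := hj
  let N : Subgroup Y := P.subgroupOf Y
  have hKN : K ≤ N := by
    rw [Subgroup.closure_le]
    intro y hy
    have : ¬ p ∣ orderOf (y : X) := by rw [Subgroup.orderOf_coe]; exact hy
    exact hodd y y.2 this
  have hTN : (T : Subgroup Y) ≤ N := fun t ht => hT t ht
  have h1 : N.index ∣ p ^ j := by rw [← hKi]; exact Subgroup.index_dvd_of_le hKN
  have h2 : N.index ∣ (T : Subgroup Y).index := Subgroup.index_dvd_of_le hTN
  have h3 : ¬ p ∣ (T : Subgroup Y).index := T.not_dvd_index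
  obtain ⟨i, _, hi⟩ := (Nat.dvd_prime_pow hp.out).1 h1
  have h4 : i = 0 := by
    by_contra hne
    apply h3
    refine dvd_trans ?_ h2
    rw [hi]; exact dvd_pow_self p hne
  rw [h4, pow_zero] at hi
  have h5 : N = ⊤ := Subgroup.index_eq_one.1 hi
  exact Subgroup.subgroupOf_eq_top.1 h5

omit hp [Finite X] [Finite V] in
theorem eq_zero_of_coprime [hp : Fact p.Prime] {w : V} (h2 : p • w = 0) {n : ℕ} (hn : ¬ p ∣ n) (hw : n • w = 0) : w = 0 := by
  have h1 : addOrderOf w ∣ p := addOrderOf_dvd_of_nsmul_eq_zero h2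
  have h3 : addOrderOf w ∣ n := addOrderOf_dvd_of_nsmul_eq_zero hw
  rcases (Nat.dvd_prime hp.out).1 h1 with h | h
  · exact AddMonoid.addOrderOf_eq_one_iff.1 h
  · exact absurd (h ▸ h3) hn

variable (V) in
/-- the outcome of steps (3), (4) for a minimal pair -/
structure Out (D B C : Subgroup X) (V₁ V₂ AB : AddSubgroup V) : Prop where
  mmB : mm V B = Nat.card V
  le12 : V₂ ≤ V₁
  le1 : V₁ ≤ fx V D
  inv1 : Iv (D ⊔ B ⊔ C) V₁
  inv2 : Iv (D ⊔ B ⊔ C) V₂
  fix : ∀ v ∈ V₁, (∀ y ∈ D ⊔ B ⊔ C, y • v = v) → v ∈ V₂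
  sup : V₁ ⊔ fx V B = ⊤
  inf : V₁ ⊓ fx V B = AB
  c1 : Nat.card AB = Nat.card B * Nat.card V₂
  c2 : Nat.card V₁ * Nat.card V₂ = Nat.card AB * Nat.card AB
  ti : ∀ a ∈ B, a ≠ 1 → ∀ v ∈ V₁, a • v - v ∈ V₂ → v ∈ fx V B

variable {pt : Sylow p X → Subgroup X} {𝒟 : Set (Subgroup X)} {D B C : Subgroup X} (h : Hyp0 p V pt 𝒟)
  (c : Cfg p pt 𝒟 D) (m : Mn p pt 𝒟 D B C)
include h c m

theorem out : ∃ V₁ V₂ AB : AddSubgroup V, Out V D B C V₁ V₂ AB := by
  classical
  obtain ⟨O, hOY, hO2, hYO, hDO, hOP, hOx⟩ := exists_O h c m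
  set Y := D ⊔ B ⊔ C with hY
  set P := pp pt D B with hP
  have hDY : D ≤ Y := le_sup_left.trans le_sup_left
  have hBY : B ≤ Y := le_sup_right.trans le_sup_left
  have hCY : C ≤ Y := le_sup_right
  have hDBY : D ⊔ B ≤ Y := le_sup_left
  have hDBP : D ⊔ B ≤ P := le_pp h c m.hB
  have hB2 : IsPGroup p B := (h.ea B m.hB.1).isPGroup
  -- `V₀`, `V₂`
  have hV0 : Iv Y (fx V O) := by
    intro y hy v hv o ho
    have h1 : y⁻¹ * o * y ∈ O := by
      have := (cj_eq_iff_mem_normalizer.2 (hYO hy) : cj y O = O)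
      rw [← this, mem_cj] at ho; exact ho
    have h3 : o • y • v = y • (y⁻¹ * o * y) • v := by rw [smul_smul, smul_smul]; congr 1; group
    rw [h3, hv _ h1]
  let V₂ : AddSubgroup V :=
    { carrier := {v | v ∈ fx V O ∧ ∀ y ∈ Y, ¬ p ∣ orderOf y → y • v = v}
      zero_mem' := ⟨(fx V O).zero_mem, fun y _ _ => smul_zero y⟩
      add_mem' := fun hv hw => ⟨(fx V O).add_mem hv.1 hw.1, fun y hy ho => by
        rw [smul_add, hv.2 y hy ho, hw.2 y hy ho]⟩
      neg_mem' := fun hv => ⟨(fx V O).neg_mem hv.1, fun y hy ho => by rw [smul_neg, hv.2 y hy ho]⟩ }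
  have hV2 : Iv Y V₂ := by
    intro y hy v hv
    refine ⟨hV0 y hy v hv.1, fun z hz ho => ?_⟩
    have h1 : (y⁻¹ * z * y) • v = v := by
      apply hv.2 _ (Y.mul_mem (Y.mul_mem (Y.inv_mem hy) hz) hy)
      have e : y⁻¹ * z * y = (MulAut.conj y⁻¹) z := by simp
      rw [e, MulEquiv.orderOf_eq]; exact ho
    have h3 : z • y • v = y • (y⁻¹ * z * y) • v := by rw [smul_smul, smul_smul]; congr 1; group
    rw [h3, h1]
  have hV20 : V₂ ≤ fx V O := fun v hv => hv.1
  -- (4a)
  have h4a : ¬ fx V O ≤ V₂ := by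
    intro hle
    have hBO : B ≤ Subgroup.normalizer (O : Set X) := hBY.trans hYO
    obtain ⟨T, hT⟩ := exists_sylow (isPGroup_sup hO2 hB2 hBO)
    have hDBT : D ⊔ B ≤ T := sup_le (hDO.trans (le_sup_left.trans hT)) (le_sup_right.trans hT)
    obtain ⟨v, hv, hst⟩ := h.vec T
    rw [← pp_eq h c m.hB hDBT] at hst
    have hvO : v ∈ V₂ := hle (fx_anti (le_sup_left.trans hT) hv)
    have hodd : ∀ y ∈ Y, ¬ p ∣ orderOf y → y ∈ P := fun y hy ho => hst (hvO.2 y hy ho)
    -- a Sylow subgroup of `Y` over `DB`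
    obtain ⟨TY, hTY⟩ := ((isPGroup_sup c.pg hB2 m.hB.2.1).comap_subtype (K := Y) :
      IsPGroup p ((D ⊔ B).subgroupOf Y)).exists_le_sylow
    have hTP : ∀ t ∈ (TY : Subgroup Y), (t : X) ∈ P := by
      let H : Subgroup X := (TY : Subgroup Y).map Y.subtype
      have hHY : H ≤ Y := by rintro x ⟨k, _, rfl⟩; exact k.2
      have hDBH : D ⊔ B ≤ H := by
        intro x hx
        exact ⟨⟨x, hDBY hx⟩, hTY hx, rfl⟩
      have hCH : ¬ C ≤ H := by
        intro e
        have hH2 : IsPGroup p H := TY.isPGroup'.map Y.subtype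
        obtain ⟨U, hU⟩ := exists_sylow hH2
        apply m.ne
        rw [pp_eq h c m.hB (hDBH.trans hU),
          pp_eq h c m.hC (sup_le (le_sup_left.trans (hDBH.trans hU)) (e.trans hU))]
      have := le_P h c m hHY hDBH hCH
      intro t ht
      exact this ⟨t, ht, rfl⟩
    exact C_not_le h c m (hCY.trans (le_of_p' hodd TY hTP))
  -- `V₁`
  obtain ⟨V₁, ⟨h1inv, h21, h10, hne⟩, h1min⟩ := Set.exists_min_image
    {W : AddSubgroup V | Iv Y W ∧ V₂ ≤ W ∧ W ≤ fx V O ∧ ¬ W ≤ V₂} (fun W => Nat.card W) (Set.toFinite _)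
    ⟨fx V O, hV0, hV20, le_rfl, h4a⟩
  have h1min' : ∀ W : AddSubgroup V, Iv Y W → V₂ ≤ W → W ≤ V₁ → ¬ W ≤ V₂ → W = V₁ := by
    intro W hW h2W hW1 hn
    exact eq_of_card_le hW1 (h1min W ⟨hW, h2W, hW1.trans h10, hn⟩)
  -- C1
  have C1 : ∀ v ∈ V₁, (∀ y ∈ Y, y • v - v ∈ V₂) → v ∈ V₂ := by
    intro v hv hy2
    refine ⟨h10 hv, fun y hy ho => ?_⟩
    set w := y • v - v with hw
    have hwf : y • w = w := (hy2 y hy).2 y hy ho
    have hpow : ∀ n : ℕ, y ^ n • v = v + n • w := by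
      intro n
      induction n with
      | zero => simp
      | succ n ih =>
        have e1 : y • (n • w) = n • w := by rw [smul_comm, hwf]
        have e2 : y • v = v + w := by rw [hw]; abel
        rw [pow_succ', mul_smul, ih, smul_add, e1, e2, succ_nsmul]; abel
    have h3 := hpow (orderOf y)
    rw [pow_orderOf_eq_one, one_smul] at h3
    have h3' : orderOf y • w = 0 := by
      have e : v + orderOf y • w = v + 0 := by rw [add_zero]; exact h3.symm
      exact add_left_cancel e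
    have h5 : w = 0 := eq_zero_of_coprime (h.h2 w) ho h3'
    rw [hw, sub_eq_zero] at h5
    exact h5
  -- `V₂ < V₁`
  have hne' : V₂ ≠ V₁ := fun e => hne e.ge
  -- an element `x` outside `P`
  have hYP : ¬ Y ≤ P := fun e => C_not_le h c m (hCY.trans e)
  obtain ⟨x₀, hx₀, hx₀P⟩ := Set.not_subset.1 hYP
  -- the subgroups `A_F`
  let AA : Subgroup X → AddSubgroup V := fun F =>
    { carrier := {v | v ∈ V₁ ∧ ∀ b ∈ F, b • v - v ∈ V₂}
      zero_mem' := ⟨V₁.zero_mem, fun b _ => by rw [smul_zero, sub_self]; exact V₂.zero_mem⟩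
      add_mem' := fun {v w} hv hw => ⟨V₁.add_mem hv.1 hw.1, fun b hb => by
        have := V₂.add_mem (hv.2 b hb) (hw.2 b hb)
        rw [smul_add]
        convert this using 1; abel⟩
      neg_mem' := fun {v} hv => ⟨V₁.neg_mem hv.1, fun b hb => by
        have := V₂.neg_mem (hv.2 b hb)
        rw [smul_neg]
        convert this using 1; abel⟩ }
  have hAA1 : ∀ F, AA F ≤ V₁ := fun F v hv => hv.1
  have hAA2 : ∀ F ≤ Y, V₂ ≤ AA F := by
    intro F hF v hv
    exact ⟨h21 hv, fun b hb => V₂.sub_mem (hV2 b (hF hb) v hv) hv⟩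
  -- intersection
  have hinf : ∀ x ∈ Y, x ∉ P → AA B ⊓ AA (cj x B) ≤ V₂ := by
    intro x hx hxP v hv
    apply C1 v hv.1.1
    have hle : Y ≤ sb Y V₂ hV2 v := by
      refine (Y_eq h c m hx hxP).ge.trans (sup_le (sup_le ?_ ?_) ?_)
      · intro d hd
        refine ⟨hDY hd, ?_⟩
        rw [h10 hv.1.1 d (hDO hd), sub_self]; exact V₂.zero_mem
      · intro b hb; exact ⟨hBY hb, hv.1.2 b hb⟩
      · intro b hb
        refine ⟨?_, hv.2.2 b hb⟩
        have := cj_mono x hBY
        rw [cj_eq_self_of_mem hx] at this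
        exact this hb
    intro y hy
    exact (hle hy).2
  have hsup : ∀ x ∈ Y, x ∉ P → AA B ⊔ AA (cj x B) = V₁ := by
    intro x hx hxP
    set W := AA B ⊔ AA (cj x B) with hW
    have hcjY : cj x B ≤ Y := by
      have := cj_mono x hBY
      rwa [cj_eq_self_of_mem hx] at this
    have hW1 : W ≤ V₁ := sup_le (hAA1 _) (hAA1 _)
    have h2W : V₂ ≤ W := (hAA2 B hBY).trans le_sup_left
    -- the elements of `Y` with `[V₁, y] ≤ W`
    let S : Subgroup X :=
      { carrier := {y | y ∈ Y ∧ ∀ v ∈ V₁, y • v - v ∈ W}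
        one_mem' := ⟨Y.one_mem, fun v _ => by rw [one_smul, sub_self]; exact W.zero_mem⟩
        mul_mem' := fun {y z} hy hz => ⟨Y.mul_mem hy.1 hz.1, fun v hv => by
          have h1 := hz.2 v hv
          have h2 := hy.2 _ (hW1 h1)
          have h3 := W.add_mem (W.add_mem h2 h1) (hy.2 v hv)
          have e : (y * z) • v - v = y • (z • v - v) - (z • v - v) + (z • v - v) + (y • v - v) := by
            rw [mul_smul, smul_sub]; abel
          rw [e]; exact h3⟩
        inv_mem' := fun {y} hy => ⟨Y.inv_mem hy.1, fun v hv => by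
          have h1 := hy.2 (y⁻¹ • v) (h1inv _ (Y.inv_mem hy.1) v hv)
          rw [smul_inv_smul] at h1
          have := W.neg_mem h1
          convert this using 1; abel⟩ }
    have hSY : Y ≤ S := by
      rw [hY, ← Y_eq h c m hx hxP]
      refine sup_le (sup_le ?_ ?_) ?_
      · intro d hd
        refine ⟨hDY hd, fun v hv => ?_⟩
        rw [h10 hv d (hDO hd), sub_self]; exact W.zero_mem
      · intro b hb
        refine ⟨hBY hb, fun v hv => ?_⟩
        apply (le_sup_left : AA B ≤ W)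
        refine ⟨V₁.sub_mem (h1inv b (hBY hb) v hv) hv, fun b' hb' => ?_⟩
        rw [h.quad B m.hB.1 b hb b' hb', sub_self]; exact V₂.zero_mem
      · intro b hb
        refine ⟨hcjY hb, fun v hv => ?_⟩
        apply (le_sup_right : AA (cj x B) ≤ W)
        refine ⟨V₁.sub_mem (h1inv b (hcjY hb) v hv) hv, fun b' hb' => ?_⟩
        rw [h.quad _ (h.conj B m.hB.1 x) b hb b' hb', sub_self]; exact V₂.zero_mem
    apply h1min' W _ h2W hW1
    · intro hcon
      obtain ⟨v, hv, hv2⟩ := Set.not_subset.1 hne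
      apply hv2
      apply C1 v hv
      intro y hy
      exact hcon ((hSY hy).2 v hv)
    · intro y hy v hv
      have h1 := (hSY hy).2 v (hW1 hv)
      have := W.add_mem h1 hv
      convert this using 1; abel
  -- cardinalities
  have hcardAA : ∀ x ∈ Y, Nat.card (AA (cj x B)) = Nat.card (AA B) := by
    intro x hx
    apply card_smul x
    intro v
    constructor
    · intro hv
      refine ⟨h1inv _ (Y.inv_mem hx) v hv.1, fun b hb => ?_⟩
      have h1 := hV2 _ (Y.inv_mem hx) _ (hv.2 _ (mem_cj_of (g := x) hb))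
      have e : b • x⁻¹ • v - x⁻¹ • v = x⁻¹ • ((x * b * x⁻¹) • v - v) := by
        rw [smul_sub, smul_smul, smul_smul]; congr 2; group
      rw [e]; exact h1
    · intro hv
      refine ⟨?_, fun b hb => ?_⟩
      · have := h1inv x hx _ hv.1
        rwa [smul_inv_smul] at this
      · have h1 := hV2 x hx _ (hv.2 _ (mem_cj.1 hb))
        have e : b • v - v = x • ((x⁻¹ * b * x) • x⁻¹ • v - x⁻¹ • v) := by
          rw [smul_sub, smul_smul, smul_smul, smul_inv_smul]; congr 2; group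
        rw [e]; exact h1
  have c2 : Nat.card V₁ * Nat.card V₂ = Nat.card (AA B) * Nat.card (AA B) := by
    have h1 := card_sup_inf (AA B) (AA (cj x₀ B))
    have h2 : AA B ⊓ AA (cj x₀ B) = V₂ :=
      le_antisymm (hinf x₀ hx₀ hx₀P) (le_inf (hAA2 B hBY) (hAA2 _ (by
        have := cj_mono x₀ hBY
        rwa [cj_eq_self_of_mem hx₀] at this)))
    rw [hsup x₀ hx₀ hx₀P, h2, hcardAA x₀ hx₀] at h1
    exact h1
  -- (3a)
  have h3a : ∀ a ∈ B, a ∉ O → ∀ v ∈ V₁, a • v - v ∈ V₂ → v ∈ AA B := by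
    intro a ha haO v hv hav
    obtain ⟨x, hx, hxP, hax⟩ := hOx a ha haO
    have hcjY : cj x B ≤ Y := by
      have := cj_mono x hBY
      rwa [cj_eq_self_of_mem hx] at this
    rw [← hsup x hx hxP] at hv
    obtain ⟨v₁, hv₁, v₂, hv₂, rfl⟩ := mem_sup hv
    have h1 : a • v₂ - v₂ ∈ V₂ := by
      have := V₂.sub_mem hav (hv₁.2 a ha)
      rw [smul_add] at this
      convert this using 1; abel
    by_cases hH : Y ≤ sb Y V₂ hV2 v₂
    · have h2 : v₂ ∈ V₂ := C1 v₂ hv₂.1 fun y hy => (hH hy).2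
      exact (AA B).add_mem hv₁ (hAA2 B hBY h2)
    · exfalso
      apply hax
      have h2 : sb Y V₂ hV2 v₂ ≤ cj x P := by
        apply le_P' h c m hx (fun y (hy : y ∈ sb Y V₂ hV2 v₂) => hy.1) _ hH
        apply sup_le
        · intro d hd
          refine ⟨hDY hd, ?_⟩
          rw [h10 hv₂.1 d (hDO hd), sub_self]; exact V₂.zero_mem
        · intro b hb
          exact ⟨hcjY hb, hv₂.2 b hb⟩
      exact h2 ⟨hBY ha, h1⟩
  -- (3b)
  have hAB1 : ¬ V₁ ≤ AA B := by
    intro hle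
    have e : AA B = V₁ := le_antisymm (hAA1 B) hle
    rw [e] at c2
    have : Nat.card V₂ = Nat.card V₁ := Nat.eq_of_mul_eq_mul_left (card_pos V₁) c2
    exact hne' (eq_of_card_le h21 this.ge)
  obtain ⟨w, hw1, hwA⟩ := Set.not_subset.1 hAB1
  have h3b : Nat.card B * Nat.card V₂ ≤ Nat.card (B ⊓ O : Subgroup X) * Nat.card (AA B) := by
    apply card_fib (hAA2 B hBY) (fun b => b • w - w)
    · intro b hb
      refine ⟨V₁.sub_mem (h1inv b (hBY hb) w hw1) hw1, fun b' hb' => ?_⟩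
      rw [h.quad B m.hB.1 b hb b' hb', sub_self]; exact V₂.zero_mem
    · intro a ha b hb hab
      have hba : b⁻¹ * a ∈ B := B.mul_mem (B.inv_mem hb) ha
      refine Subgroup.mem_inf.2 ⟨hba, ?_⟩
      by_contra hO
      apply hwA
      apply h3a _ hba hO w hw1
      have h1 : (a • w - b • w : V) ∈ V₂ := by convert hab using 1; abel
      have h2 := hV2 _ (Y.inv_mem (hBY hb)) _ h1
      rw [smul_sub, smul_smul, inv_smul_smul] at h2
      exact h2
  -- (4)
  have hinfB : V₁ ⊓ fx V B ≤ AA B := by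
    intro v hv
    refine ⟨hv.1, fun b hb => ?_⟩
    rw [hv.2 b hb, sub_self]; exact V₂.zero_mem
  set C1' := fx V B with hC1'
  have e1 := card_sup_inf V₁ C1'
  have h4 : mm V B ≤ mm V (B ⊓ O : Subgroup X) ∧
      (Nat.card B * Nat.card V₂) * (Nat.card (AA B) * Nat.card C1') ≤
        Nat.card (B ⊓ O : Subgroup X) * Nat.card (V₁ ⊔ C1' : AddSubgroup V) * (Nat.card V₂ * Nat.card (AA B)) := by
    have h5 : Nat.card V₁ * Nat.card C1' ≤ Nat.card (V₁ ⊔ C1' : AddSubgroup V) * Nat.card (AA B) := by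
      rw [← e1]; exact Nat.mul_le_mul_left _ (card_le hinfB)
    have h6 : V₁ ⊔ C1' ≤ fx V (B ⊓ O : Subgroup X) :=
      sup_le (h10.trans (fx_anti inf_le_right)) (fx_anti inf_le_left)
    have h7 : (Nat.card B * Nat.card V₂) * (Nat.card (AA B) * Nat.card C1') ≤
        Nat.card (B ⊓ O : Subgroup X) * Nat.card (V₁ ⊔ C1' : AddSubgroup V) * (Nat.card V₂ * Nat.card (AA B)) := by
      calc (Nat.card B * Nat.card V₂) * (Nat.card (AA B) * Nat.card C1')
          ≤ (Nat.card (B ⊓ O : Subgroup X) * Nat.card (AA B)) * (Nat.card (AA B) * Nat.card C1') :=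
            Nat.mul_le_mul_right _ h3b
        _ = Nat.card (B ⊓ O : Subgroup X) * (Nat.card (AA B) * Nat.card (AA B)) * Nat.card C1' := by ring
        _ = Nat.card (B ⊓ O : Subgroup X) * Nat.card V₂ * (Nat.card V₁ * Nat.card C1') := by rw [← c2]; ring
        _ ≤ Nat.card (B ⊓ O : Subgroup X) * Nat.card V₂ * (Nat.card (V₁ ⊔ C1' : AddSubgroup V) * Nat.card (AA B)) :=
            Nat.mul_le_mul_left _ h5
        _ = _ := by ring
    refine ⟨?_, h7⟩
    have hpos : 0 < Nat.card V₂ * Nat.card (AA B) := Nat.mul_pos (card_pos _) (card_pos _)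
    apply Nat.le_of_mul_le_mul_right _ hpos
    calc mm V B * (Nat.card V₂ * Nat.card (AA B))
        = (Nat.card B * Nat.card V₂) * (Nat.card (AA B) * Nat.card C1') := by rw [mm]; ring
      _ ≤ _ := h7
      _ ≤ mm V (B ⊓ O : Subgroup X) * (Nat.card V₂ * Nat.card (AA B)) := by
          apply Nat.mul_le_mul_right
          exact Nat.mul_le_mul_left _ (card_le h6)
  have hBO : B ⊓ O = ⊥ := by
    by_contra hne
    have hlt : B ⊓ O < B := by
      refine lt_of_le_of_ne inf_le_left fun e => ?_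
      have hBO : B ≤ O := inf_eq_left.1 e
      apply hx₀P
      apply pp_eq_of_le_cj h c m.hB
      apply (sup_le hDO hBO).trans
      have := cj_mono x₀ hOP
      rwa [cj_eq_iff_mem_normalizer.2 (hYO hx₀)] at this
    exact absurd (h.min B m.hB.1 _ hlt hne) (not_lt.2 h4.1)
  have hmmB : mm V B = Nat.card V := by
    apply le_antisymm
    · rw [← mm_bot (V := V) (X := X), ← hBO]; exact h4.1
    · exact h.off B m.hB.1
  have h41 := h4.2
  rw [hBO, Subgroup.card_bot, one_mul] at h41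
  have h3b' := h3b
  rw [hBO, Subgroup.card_bot, one_mul] at h3b'
  -- equalities
  have hpos : 0 < Nat.card V₂ * Nat.card (AA B) := Nat.mul_pos (card_pos _) (card_pos _)
  have hle1 : Nat.card V ≤ Nat.card (V₁ ⊔ C1' : AddSubgroup V) := by
    apply Nat.le_of_mul_le_mul_right _ hpos
    calc Nat.card V * (Nat.card V₂ * Nat.card (AA B))
        = (Nat.card B * Nat.card V₂) * (Nat.card (AA B) * Nat.card C1') := by rw [← hmmB, mm]; ring
      _ ≤ _ := h41
  have hsupT : V₁ ⊔ C1' = ⊤ := by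
    apply eq_of_card_le le_top
    rw [card_top]; exact hle1
  have hVpos : 0 < Nat.card V := Nat.card_pos
  have e2 : Nat.card V * Nat.card (V₁ ⊓ C1' : AddSubgroup V) = Nat.card V₁ * Nat.card C1' := by
    rw [← e1, hsupT, card_top]
  -- |AA B| ≤ |B| |V₂|
  have hAAle : Nat.card (AA B) ≤ Nat.card B * Nat.card V₂ := by
    -- |V₁| |C| = |V| |V₁ ⊓ C| ≤ |V| |AA| = |B| |C| |AA|
    have h5 : Nat.card V₁ ≤ Nat.card B * Nat.card (AA B) := by
      have hCpos : 0 < Nat.card C1' := card_pos _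
      apply Nat.le_of_mul_le_mul_right _ hCpos
      calc Nat.card V₁ * Nat.card C1' = Nat.card V * Nat.card (V₁ ⊓ C1' : AddSubgroup V) := e2.symm
        _ ≤ Nat.card V * Nat.card (AA B) := Nat.mul_le_mul_left _ (card_le hinfB)
        _ = Nat.card B * Nat.card (AA B) * Nat.card C1' := by rw [← hmmB, mm]; ring
    have h6 : Nat.card (AA B) * Nat.card (AA B) ≤ Nat.card B * Nat.card (AA B) * Nat.card V₂ := by
      rw [← c2]; exact Nat.mul_le_mul_right _ h5
    have hApos : 0 < Nat.card (AA B) := card_pos _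
    apply Nat.le_of_mul_le_mul_right _ hApos
    calc _ ≤ _ := h6
      _ = _ := by ring
  have c1 : Nat.card (AA B) = Nat.card B * Nat.card V₂ := le_antisymm hAAle h3b'
  have hinfeq : V₁ ⊓ C1' = AA B := by
    apply eq_of_card_le hinfB
    -- |V₁| |C| = |V| |V₁ ⊓ C|, |V₁| |V₂| = |AA|², |AA| = |B| |V₂| so |V₁| = |B| |AA|
    have h5 : Nat.card V₁ = Nat.card B * Nat.card (AA B) := by
      have h2pos : 0 < Nat.card V₂ := card_pos _
      apply Nat.eq_of_mul_eq_mul_right h2pos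
      rw [c2]; nth_rewrite 1 [c1]; ring
    have h6 : Nat.card V * Nat.card (AA B) = Nat.card V * Nat.card (V₁ ⊓ C1' : AddSubgroup V) := by
      rw [e2, h5, ← hmmB, mm]; ring
    exact (Nat.eq_of_mul_eq_mul_left hVpos h6).le
  refine ⟨V₁, V₂, AA B, hmmB, h21, h10.trans (fx_anti hDO), h1inv, hV2, ?_, hsupT, hinfeq, c1, c2, ?_⟩
  · intro v hv hy
    apply C1 v hv
    intro y hyY
    rw [hy y hyY, sub_self]; exact V₂.zero_mem
  · intro a ha ha1 v hv hav
    have haO : a ∉ O := by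
      intro haO
      have : a ∈ B ⊓ O := Subgroup.mem_inf.2 ⟨ha, haO⟩
      rw [hBO, Subgroup.mem_bot] at this
      exact ha1 this
    have := h3a a ha haO v hv hav
    rw [← hinfeq] at this
    exact this.2

end Cfsg.Agent.H263.FF.Chief
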