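import Cfsg.Agent.H263.FF.Pair

/-!
# FF-modules: two members of `𝒟` in a common `p`-subgroup commute, any prime
-/

set_option autoImplicit false
set_option linter.unusedSectionVars false
set_option linter.unusedVariables false

namespace Cfsg.Agent.H263.FF.Comm4

open Cfsg.Agent.H263.FF.Basic Cfsg.Agent.H263.FF.Setup Cfsg.Agent.H263.FF.Conf
open scoped Pointwise

/-- a proper subgroup of a 2-group lies in a proper normal subgroup -/
theorem exists_normal {p : ℕ} [hp : Fact p.Prime] {X : Type*} [Group X] [Finite X] {P A : Subgroup X} (hP : IsPGroup p P) (hA : A ≤ P)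
    (hne : A ≠ P) : ∃ M : Subgroup X, A ≤ M ∧ M ≤ P ∧ M ≠ P ∧ ∀ g ∈ P, cj g M = M := by
  have hnil : Group.IsNilpotent P := hP.isNilpotent
  have hAt : A.subgroupOf P ≠ ⊤ := by
    intro e
    exact hne (le_antisymm hA (Subgroup.subgroupOf_eq_top.1 e))
  obtain ⟨M, hM, hAM⟩ : ∃ M : Subgroup P, IsCoatom M ∧ A.subgroupOf P ≤ M := by
    rcases eq_top_or_exists_le_coatom (A.subgroupOf P) with h | ⟨M, h1, h2⟩
    · exact absurd h hAt
    · exact ⟨M, h1, h2⟩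
  have hn : M.Normal := Subgroup.NormalizerCondition.normal_of_coatom M
    Group.normalizerCondition_of_isNilpotent hM
  refine ⟨M.map P.subtype, ?_, ?_, ?_, ?_⟩
  · intro a ha
    exact ⟨⟨a, hA ha⟩, hAM (Subgroup.mem_subgroupOf.2 ha), rfl⟩
  · rintro _ ⟨m, -, rfl⟩
    exact m.2
  · intro e
    apply hM.1
    rw [eq_top_iff]
    intro x _
    have : (x : X) ∈ M.map P.subtype := by rw [e]; exact x.2
    obtain ⟨m, hm, e2⟩ := this
    have : m = x := Subtype.ext e2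
    rw [← this]; exact hm
  · intro g hg
    apply cj_eq_of_le
    rw [cj_le_iff]
    rintro _ ⟨m, hm, rfl⟩
    exact ⟨⟨g, hg⟩ * m * ⟨g, hg⟩⁻¹, hn.conj_mem m hm _, rfl⟩

variable {p : ℕ} [hp : Fact p.Prime]
variable {X : Type*} [Group X] [Finite X] {V : Type*} [AddCommGroup V] [Finite V] [DistribMulAction X V]
variable {pt : Sylow p X → Subgroup X} {𝒟 : Set (Subgroup X)} {D : Subgroup X} (h : Hyp p V pt 𝒟)
  (c : Cfg p pt 𝒟 D)
include h c

theorem inf_bot {A B : Subgroup X} (hA : A ∈ 𝒟) (hB : B ∈ 𝒟) (hne : A ≠ B) : A ⊓ B = ⊥ := by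
  rw [Subgroup.eq_bot_iff_forall]
  rintro x ⟨hxA, hxB⟩
  by_contra hx
  apply hne
  apply Pair.ax h c hA hB
  apply le_antisymm
  · intro v hv
    exact Pair.ti h.toHyp0 c hB hxB hx (hv x hxA)
  · intro v hv
    exact Pair.ti h.toHyp0 c hA hxA hx (hv x hxB)

/-- the lower bound -/
theorem card_inf_ge {A B : Subgroup X} (hA : A ∈ 𝒟) (hB : B ∈ 𝒟) :
    Nat.card V ≤ Nat.card A * Nat.card A * Nat.card (fx V A ⊓ fx V B : AddSubgroup V) := by
  have e1 := Pair.mm_eq h.toHyp0 c hA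
  have e2 := Pair.mm_eq h.toHyp0 c hB
  rw [mm] at e1 e2
  rw [← h.card_eq hA hB] at e2
  have e3 := card_sup_inf (fx V A) (fx V B)
  have e4 := card_le_top (fx V A ⊔ fx V B)
  have hpos : 0 < Nat.card V := Nat.card_pos
  apply Nat.le_of_mul_le_mul_left _ hpos
  calc Nat.card V * Nat.card V = (Nat.card A * Nat.card A) * (Nat.card (fx V A) * Nat.card (fx V B)) := by
        nth_rewrite 1 [← e1]; rw [← e2]; ring
    _ = (Nat.card A * Nat.card A) * (Nat.card (fx V A ⊔ fx V B : AddSubgroup V) *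
        Nat.card (fx V A ⊓ fx V B : AddSubgroup V)) := by rw [e3]
    _ ≤ (Nat.card A * Nat.card A) * (Nat.card V * Nat.card (fx V A ⊓ fx V B : AddSubgroup V)) :=
        Nat.mul_le_mul_left _ (Nat.mul_le_mul_right _ e4)
    _ = _ := by ring

/-- (3) -/
theorem card_inf {A B : Subgroup X} (hA : A ∈ 𝒟) (hB : B ∈ 𝒟) (hne : A ≠ B)
    (hc : ∀ a ∈ A, ∀ b ∈ B, a * b = b * a) :
    Nat.card A * Nat.card A * Nat.card (fx V A ⊓ fx V B : AddSubgroup V) = Nat.card V ∧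
      fx V A ⊔ fx V B = ⊤ := by
  have h1 := Pair.no h c _ (Pair.EA_sup (h.ea A hA) (h.ea B hB) hc)
  rw [mm, fx_sup] at h1
  have h2 : Nat.card A * Nat.card A ≤ Nat.card (A ⊔ B : Subgroup X) := by
    nth_rewrite 2 [h.card_eq hA hB]
    rw [← Nat.card_prod]
    refine Nat.card_le_card_of_injective
      (fun x : A × B => (⟨(x.1 : X) * x.2, Subgroup.mul_mem _ (Subgroup.mem_sup_left x.1.2)
        (Subgroup.mem_sup_right x.2.2)⟩ : (A ⊔ B : Subgroup X))) ?_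
    rintro ⟨a, b⟩ ⟨a', b'⟩ e
    have e1 : (a : X) * b = a' * b' := congrArg Subtype.val e
    have e2 : (a' : X)⁻¹ * a = b' * (b : X)⁻¹ := by
      rw [inv_mul_eq_iff_eq_mul, ← mul_assoc, ← e1]; group
    have e3 : (a' : X)⁻¹ * a ∈ A ⊓ B := by
      refine Subgroup.mem_inf.2 ⟨A.mul_mem (A.inv_mem a'.2) a.2, ?_⟩
      rw [e2]; exact B.mul_mem b'.2 (B.inv_mem b.2)
    rw [inf_bot h c hA hB hne, Subgroup.mem_bot, inv_mul_eq_one] at e3
    have e4 : (b : X) = b' := by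
      rw [e3] at e1
      exact mul_left_cancel e1
    exact Prod.ext (Subtype.ext e3.symm) (Subtype.ext e4)
  have h3 := card_inf_ge h c hA hB
  have h4 : Nat.card A * Nat.card A * Nat.card (fx V A ⊓ fx V B : AddSubgroup V) = Nat.card V :=
    le_antisymm ((Nat.mul_le_mul_right _ h2).trans h1) h3
  refine ⟨h4, ?_⟩
  apply eq_of_card_le le_top
  rw [card_top]
  have e1 := Pair.mm_eq h.toHyp0 c hA
  have e2 := Pair.mm_eq h.toHyp0 c hB
  rw [mm] at e1 e2
  rw [← h.card_eq hA hB] at e2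
  have e3 := card_sup_inf (fx V A) (fx V B)
  have hq : 0 < Nat.card A * Nat.card A := Nat.mul_pos Nat.card_pos Nat.card_pos
  have hi := card_pos (fx V A ⊓ fx V B : AddSubgroup V)
  apply Nat.le_of_mul_le_mul_right _ (Nat.mul_pos hq hi)
  apply le_of_eq
  calc Nat.card V * (Nat.card A * Nat.card A * Nat.card (fx V A ⊓ fx V B : AddSubgroup V)) =
        Nat.card V * Nat.card V := by rw [h4]
    _ = (Nat.card A * Nat.card A) * (Nat.card (fx V A) * Nat.card (fx V B)) := by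
        nth_rewrite 1 [← e1]; rw [← e2]; ring
    _ = (Nat.card A * Nat.card A) * (Nat.card (fx V A ⊔ fx V B : AddSubgroup V) *
        Nat.card (fx V A ⊓ fx V B : AddSubgroup V)) := by rw [e3]
    _ = _ := by ring

omit c in
/-- `A` normalises `B`, `A` commutes with `A^b ≠ A` -/
theorem comm_of {A B : Subgroup X} (hA : A ∈ 𝒟) (hB : B ∈ 𝒟) (hn : ∀ a ∈ A, cj a B = B) {b₀ : X} (hb₀ : b₀ ∈ B)
    (hi : A ⊓ cj b₀ A = ⊥) (hc : ∀ a ∈ A, ∀ x ∈ cj b₀ A, a * x = x * a) : ∀ a ∈ A, ∀ b ∈ B, a * b = b * a := by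
  have hf : ∀ a ∈ A, a⁻¹ * (b₀ * a * b₀⁻¹) ∈ B := by
    intro a ha
    have h1 : a⁻¹ * b₀ * a ∈ B := by
      have := hn a ha
      rw [← this, mem_cj] at hb₀
      exact hb₀
    have h2 := B.mul_mem h1 (B.inv_mem hb₀)
    convert h2 using 1; group
  let f : A → B := fun a => ⟨(a : X)⁻¹ * (b₀ * a * b₀⁻¹), hf a a.2⟩
  have hinj : Function.Injective f := by
    intro a a' e
    have e1 : (a : X)⁻¹ * (b₀ * a * b₀⁻¹) = (a' : X)⁻¹ * (b₀ * a' * b₀⁻¹) := congrArg Subtype.val e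
    have e2 : (a' : X) * (a : X)⁻¹ = b₀ * ((a' : X) * (a : X)⁻¹) * b₀⁻¹ := by
      have e3 : (a' : X) * ((a : X)⁻¹ * (b₀ * a * b₀⁻¹)) * (b₀ * (a : X)⁻¹ * b₀⁻¹) =
          (a' : X) * ((a' : X)⁻¹ * (b₀ * a' * b₀⁻¹)) * (b₀ * (a : X)⁻¹ * b₀⁻¹) := by rw [e1]
      have e4 : (a' : X) * ((a : X)⁻¹ * (b₀ * a * b₀⁻¹)) * (b₀ * (a : X)⁻¹ * b₀⁻¹) = a' * (a : X)⁻¹ := by group
      have e5 : (a' : X) * ((a' : X)⁻¹ * (b₀ * a' * b₀⁻¹)) * (b₀ * (a : X)⁻¹ * b₀⁻¹) =
          b₀ * ((a' : X) * (a : X)⁻¹) * b₀⁻¹ := by group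
      exact e4.symm.trans (e3.trans e5)
    have e3 : (a' : X) * (a : X)⁻¹ ∈ A ⊓ cj b₀ A := by
      refine Subgroup.mem_inf.2 ⟨A.mul_mem a'.2 (A.inv_mem a.2), ?_⟩
      rw [e2]
      exact mem_cj_of (A.mul_mem a'.2 (A.inv_mem a.2))
    rw [hi, Subgroup.mem_bot, mul_inv_eq_one] at e3
    exact Subtype.ext e3.symm
  have hsurj : Function.Surjective f :=
    ((Nat.bijective_iff_injective_and_card f).2 ⟨hinj, h.card_eq hA hB⟩).2
  intro a₁ ha₁ b hb
  obtain ⟨⟨a, ha⟩, e⟩ := hsurj ⟨b, hb⟩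
  have e1 : a⁻¹ * (b₀ * a * b₀⁻¹) = b := congrArg Subtype.val e
  have e2 : a₁ * (b₀ * a * b₀⁻¹) = (b₀ * a * b₀⁻¹) * a₁ := hc a₁ ha₁ _ (mem_cj_of ha)
  have e3 : a₁ * a⁻¹ = a⁻¹ * a₁ := (h.ea A hA).comm ha₁ (A.inv_mem ha)
  rw [← e1]
  calc a₁ * (a⁻¹ * (b₀ * a * b₀⁻¹)) = (a₁ * a⁻¹) * (b₀ * a * b₀⁻¹) := by group
    _ = a⁻¹ * (a₁ * (b₀ * a * b₀⁻¹)) := by rw [e3]; group
    _ = a⁻¹ * ((b₀ * a * b₀⁻¹) * a₁) := by rw [e2]
    _ = _ := by group

/-- half of (4) -/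
theorem quad_of {A B P : Subgroup X} (hA : A ∈ 𝒟) (hB : B ∈ 𝒟) (hP : P = A ⊔ B) {b₀ : X} (hb₀ : b₀ ∈ B)
    (hne : cj b₀ A ≠ A) (hc : ∀ a ∈ A, ∀ x ∈ cj b₀ A, a * x = x * a) :
    ∀ a ∈ A, ∀ v : V, ∀ b ∈ B, b • (a • v - v) = a • v - v := by
  have hA' : cj b₀ A ∈ 𝒟 := h.conj A hA b₀
  obtain ⟨h1, h2⟩ := card_inf h c hA hA' (Ne.symm hne) hc
  have h3 := card_inf_ge h c hA hB
  have hle : fx V A ⊓ fx V B ≤ fx V A ⊓ fx V (cj b₀ A) := by
    rw [← fx_sup, ← fx_sup]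
    apply fx_anti
    apply sup_le le_sup_left
    rw [cj_le_iff]
    intro a ha
    exact Subgroup.mul_mem _ (Subgroup.mul_mem _ (Subgroup.mem_sup_right hb₀) (Subgroup.mem_sup_left ha))
      (Subgroup.inv_mem _ (Subgroup.mem_sup_right hb₀))
  have hq : 0 < Nat.card A * Nat.card A := Nat.mul_pos Nat.card_pos Nat.card_pos
  have heq : fx V A ⊓ fx V B = fx V A ⊓ fx V (cj b₀ A) := by
    apply eq_of_card_le hle
    apply Nat.le_of_mul_le_mul_left _ hq
    rw [h1]; exact h3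
  intro a ha v b hb
  have hv : v ∈ fx V A ⊔ fx V (cj b₀ A) := by rw [h2]; trivial
  obtain ⟨v₁, hv₁, v₂, hv₂, rfl⟩ := mem_sup hv
  have e : a • (v₁ + v₂) - (v₁ + v₂) = a • v₂ - v₂ := by
    rw [smul_add, hv₁ a ha]; abel
  rw [e]
  have hmem : a • v₂ - v₂ ∈ fx V A ⊓ fx V (cj b₀ A) := by
    refine AddSubgroup.mem_inf.2 ⟨fun a' ha' => h.quad A hA a ha a' ha' v₂, ?_⟩
    refine (fx V (cj b₀ A)).sub_mem ?_ hv₂
    intro x hx
    rw [smul_smul, ← hc a ha x hx, ← smul_smul, hv₂ x hx]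
  rw [← heq] at hmem
  exact hmem.2 b hb

/-- **(4)**: two members of `𝒟` in a common 2-subgroup commute. -/
theorem comm : ∀ (n : ℕ) (A : Subgroup X), A ∈ 𝒟 → ∀ B ∈ 𝒟, IsPGroup p (A ⊔ B : Subgroup X) →
    Nat.card (A ⊔ B : Subgroup X) = n → ∀ a ∈ A, ∀ b ∈ B, a * b = b * a := by
  intro n
  induction n using Nat.strong_induction_on with
  | _ n ih =>
    intro A hA B hB hP hn
    by_cases hAB : A = B
    · subst hAB
      intro a ha b hb
      exact (h.ea A hA).comm ha hb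
    have hAne : A ≠ A ⊔ B := by
      intro e
      have h1 : B ≤ A := by rw [e]; exact le_sup_right
      exact hAB (Subgroup.eq_of_le_of_card_ge h1 (h.card_eq hA hB).le).symm
    have hBne : B ≠ A ⊔ B := by
      intro e
      have h1 : A ≤ B := by rw [e]; exact le_sup_left
      exact hAB (Subgroup.eq_of_le_of_card_ge h1 (h.card_eq hB hA).le)
    -- conjugates of `A` under `P` commute with `A`
    have key : ∀ C ∈ 𝒟, C ≤ A ⊔ B → C ≠ A ⊔ B → ∀ g ∈ A ⊔ B, ∀ a ∈ C, ∀ x ∈ cj g C, a * x = x * a := by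
      intro C hC hCP hCne g hg
      obtain ⟨M, hCM, hMP, hMne, hMn⟩ := exists_normal hP hCP hCne
      have h1 : cj g C ≤ M := by
        rw [← hMn g hg]; exact cj_mono g hCM
      have h2 : C ⊔ cj g C ≤ M := sup_le hCM h1
      have h3 : Nat.card (C ⊔ cj g C : Subgroup X) < n := by
        rw [← hn]
        refine lt_of_le_of_lt (Nat.card_le_card_of_injective _ (Subgroup.inclusion_injective h2)) ?_
        refine lt_of_le_of_ne (Nat.card_le_card_of_injective _ (Subgroup.inclusion_injective hMP)) ?_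
        intro e
        exact hMne (Subgroup.eq_of_le_of_card_ge hMP e.ge)
      exact ih _ h3 C hC (cj g C) (h.conj C hC g) (hP.to_le (h2.trans hMP)) rfl
    by_cases h1 : ∃ b ∈ B, cj b A ≠ A
    · obtain ⟨b₀, hb₀, hne⟩ := h1
      have hc := key A hA le_sup_left hAne b₀ (Subgroup.mem_sup_right hb₀)
      by_cases h2 : ∃ a ∈ A, cj a B ≠ B
      · obtain ⟨a₀, ha₀, hne'⟩ := h2
        have hc' := key B hB le_sup_right hBne a₀ (Subgroup.mem_sup_left ha₀)
        intro a ha b hb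
        exact Pair.commute_of h.faith
          (fun v => quad_of h c hA hB rfl hb₀ hne hc a ha v b hb)
          (fun v => quad_of h c hB hA rfl ha₀ hne' hc' b hb v a ha)
      · push Not at h2
        exact comm_of h hA hB h2 hb₀ (inf_bot h c hA (h.conj A hA b₀) (Ne.symm hne)) hc
    · push Not at h1
      by_cases h2 : ∃ a ∈ A, cj a B ≠ B
      · obtain ⟨a₀, ha₀, hne'⟩ := h2
        have hc' := key B hB le_sup_right hBne a₀ (Subgroup.mem_sup_left ha₀)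
        have h3 := comm_of h hB hA h1 ha₀ (inf_bot h c hB (h.conj B hB a₀) (Ne.symm hne')) hc'
        intro a ha b hb
        exact (h3 b hb a ha).symm
      · push Not at h2
        intro a ha b hb
        have e1 : a * b * a⁻¹ * b⁻¹ ∈ A ⊓ B := by
          refine Subgroup.mem_inf.2 ⟨?_, ?_⟩
          · have e2 : b * a⁻¹ * b⁻¹ ∈ A := by
              rw [← h1 b hb]; exact mem_cj_of (A.inv_mem ha)
            have e3 := A.mul_mem ha e2
            convert e3 using 1; group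
          · have e2 : a * b * a⁻¹ ∈ B := by
              rw [← h2 a ha]; exact mem_cj_of hb
            exact B.mul_mem e2 (B.inv_mem hb)
        rw [inf_bot h c hA hB hAB, Subgroup.mem_bot] at e1
        have e2 : a * b = b * a := by
          have e3 : a * b * a⁻¹ * b⁻¹ * (b * a) = a * b := by group
          rw [← e3, e1, one_mul]
        exact e2

/-- Two members of `𝒟` in a common 2-subgroup commute. -/
theorem comm' {A B P : Subgroup X} (hA : A ∈ 𝒟) (hB : B ∈ 𝒟) (hP : IsPGroup p P) (hAP : A ≤ P) (hBP : B ≤ P) :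
    ∀ a ∈ A, ∀ b ∈ B, a * b = b * a :=
  comm h c _ A hA B hB (hP.to_le (sup_le hAP hBP)) rfl

end Cfsg.Agent.H263.FF.Comm4
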