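import Cfsg.Agent.H263.FF.Chief

/-!
# FF-modules: all pairs in `𝒜_N` at different points, any prime
-/

set_option autoImplicit false
set_option linter.unusedSectionVars false

namespace Cfsg.Agent.H263.FF.Pair

open Cfsg.Agent.H263.FF.Basic Cfsg.Agent.H263.FF.Setup Cfsg.Agent.H263.FF.Frat Cfsg.Agent.H263.FF.Conf
open Cfsg.Agent.H263.FF.Min Cfsg.Agent.H263.FF.Chief
open scoped Pointwise

variable {p : ℕ} [hp : Fact p.Prime]
variable {X : Type*} [Group X] [Finite X] {V : Type*} [AddCommGroup V] [Finite V] [DistribMulAction X V]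

omit [Finite X] in
/-- if the commutators of `A` are fixed by `B` and conversely, then `A`, `B` commute (faithful action) -/
theorem commute_of (hf : ∀ x : X, (∀ v : V, x • v = v) → x = 1) {a b : X}
    (h1 : ∀ v : V, b • (a • v - v) = a • v - v) (h2 : ∀ v : V, a • (b • v - v) = b • v - v) : a * b = b * a := by
  have key : ∀ v : V, (a * b) • v = (b * a) • v := by
    intro v
    have e1 := h1 v
    have e2 := h2 v
    rw [smul_sub, smul_smul] at e1 e2
    have e3 : (b * a) • v = a • v - v + b • v := by rw [← e1]; abel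
    have e4 : (a * b) • v = b • v - v + a • v := by rw [← e2]; abel
    rw [e3, e4]; abel
  have : (b * a)⁻¹ * (a * b) = 1 := by
    apply hf
    intro v
    rw [mul_smul, key, inv_smul_smul]
  rw [inv_mul_eq_one] at this
  exact this.symm

omit [Finite X] in
/-- product of two commuting elementary abelian groups -/
theorem EA_sup {A B : Subgroup X} (hA : EA p A) (hB : EA p B) (hc : ∀ a ∈ A, ∀ b ∈ B, a * b = b * a) :
    EA p (A ⊔ B) := by
  let E : Subgroup X :=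
    { carrier := {x | ∃ a ∈ A, ∃ b ∈ B, x = a * b}
      one_mem' := ⟨1, A.one_mem, 1, B.one_mem, by simp⟩
      mul_mem' := by
        rintro _ _ ⟨a, ha, b, hb, rfl⟩ ⟨a', ha', b', hb', rfl⟩
        refine ⟨a * a', A.mul_mem ha ha', b * b', B.mul_mem hb hb', ?_⟩
        have := hc a' ha' b hb
        calc a * b * (a' * b') = a * (b * a') * b' := by group
          _ = a * (a' * b) * b' := by rw [this]
          _ = _ := by group
      inv_mem' := by
        rintro _ ⟨a, ha, b, hb, rfl⟩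
        refine ⟨a⁻¹, A.inv_mem ha, b⁻¹, B.inv_mem hb, ?_⟩
        rw [hc a ha b hb, mul_inv_rev] }
  have hle : A ⊔ B ≤ E := sup_le (fun a ha => ⟨a, ha, 1, B.one_mem, by simp⟩)
    (fun b hb => ⟨1, A.one_mem, b, hb, by simp⟩)
  constructor
  · intro x hx y hy
    obtain ⟨a, ha, b, hb, rfl⟩ := hle hx
    obtain ⟨a', ha', b', hb', rfl⟩ := hle hy
    have e1 := hc a' ha' b hb
    have e2 := hc a ha b' hb'
    have e3 := hA.comm ha ha'
    have e4 := hB.comm hb hb'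
    calc a * b * (a' * b') = a * (b * a') * b' := by group
      _ = a * (a' * b) * b' := by rw [e1]
      _ = (a * a') * (b * b') := by group
      _ = (a' * a) * (b' * b) := by rw [e3, e4]
      _ = a' * (a * b') * b := by group
      _ = a' * (b' * a) * b := by rw [e2]
      _ = _ := by group
  · intro x hx
    obtain ⟨a, ha, b, hb, rfl⟩ := hle hx
    have : Commute a b := hc a ha b hb
    rw [this.mul_pow, hA.pow ha, hB.pow hb, one_mul]

variable {pt : Sylow p X → Subgroup X} {𝒟 : Set (Subgroup X)} {D : Subgroup X}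

section cons

variable (h : Hyp0 p V pt 𝒟) (c : Cfg p pt 𝒟 D)
include h c

/-! ### consequences for the class `𝒟` -/

theorem mm_eq {A : Subgroup X} (hA : A ∈ 𝒟) : mm V A = Nat.card V := by
  obtain ⟨B, hB, C, hC, hne⟩ := exists_two h c
  obtain ⟨F, hF, _⟩ := exists_mn hB hC hne
  obtain ⟨V₁, V₂, AB, o⟩ := out h c hF
  obtain ⟨g, hg⟩ := h.tr B hB.1 A hA
  rw [← hg, mm_cj, o.mmB]

/-- TI1 -/
theorem ti {A : Subgroup X} (hA : A ∈ 𝒟) {a : X} (ha : a ∈ A) (ha1 : a ≠ 1) {v : V} (hv : a • v = v) : v ∈ fx V A := by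
  obtain ⟨B, hB, C, hC, hne⟩ := exists_two h c
  obtain ⟨F, hF, _⟩ := exists_mn hB hC hne
  obtain ⟨V₁, V₂, AB, o⟩ := out h c hF
  have key : ∀ b ∈ B, b ≠ 1 → ∀ v : V, b • v = v → v ∈ fx V B := by
    intro b hb hb1 v hv
    have hvT : v ∈ V₁ ⊔ fx V B := by rw [o.sup]; trivial
    obtain ⟨v₁, hv₁, u, hu, rfl⟩ := mem_sup hvT
    have h1 : b • v₁ = v₁ := by
      rw [smul_add, hu b hb] at hv
      exact add_right_cancel hv
    have h2 : v₁ ∈ fx V B := o.ti b hb hb1 v₁ hv₁ (by rw [h1, sub_self]; exact V₂.zero_mem)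
    exact (fx V B).add_mem h2 hu
  obtain ⟨g, hg⟩ := h.tr B hB.1 A hA
  rw [← hg] at ha ⊢
  rw [mem_fx_cj]
  apply key _ (mem_cj.1 ha)
  · intro e
    apply ha1
    have : a = g * (g⁻¹ * a * g) * g⁻¹ := by group
    rw [this, e]; group
  · rw [smul_smul, mul_assoc, mul_inv_cancel, mul_one, mul_smul, hv]

end cons

theorem fx_ne_top (h : Hyp0 p V pt 𝒟) {A : Subgroup X} (hA : A ∈ 𝒟) : ¬ ∀ v : V, v ∈ fx V A := by
  intro e
  apply h.nb A hA
  rw [Subgroup.eq_bot_iff_forall]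
  intro x hx
  exact h.faith x fun v => e v x hx

/-- no over-offenders -/
theorem no (h : Hyp p V pt 𝒟) (c : Cfg p pt 𝒟 D) (E : Subgroup X) (hE : EA p E) : mm V E ≤ Nat.card V := by
  obtain ⟨A, hA⟩ := h.ne
  rw [← mm_eq h.toHyp0 c hA]
  exact h.max A hA E hE

/-- AX -/
theorem ax (h : Hyp p V pt 𝒟) (c : Cfg p pt 𝒟 D) {A B : Subgroup X} (hA : A ∈ 𝒟) (hB : B ∈ 𝒟) (e : fx V A = fx V B) :
    A = B := by
  have hc : ∀ a ∈ A, ∀ b ∈ B, a * b = b * a := by
    intro a ha b hb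
    apply commute_of h.faith
    · intro v
      have h1 : a • v - v ∈ fx V A := fun a' ha' => h.quad A hA a ha a' ha' v
      rw [e] at h1
      exact h1 b hb
    · intro v
      have h1 : b • v - v ∈ fx V B := fun b' hb' => h.quad B hB b hb b' hb' v
      rw [← e] at h1
      exact h1 a ha
  have h1 := no h c _ (EA_sup (h.ea A hA) (h.ea B hB) hc)
  have h2 := mm_eq h.toHyp0 c hA
  rw [mm, fx_sup, ← e, inf_idem, ← h2, mm] at h1
  have h3 := Nat.le_of_mul_le_mul_right h1 (card_pos _)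
  have h4 : A = A ⊔ B := Subgroup.eq_of_le_of_card_ge le_sup_left h3
  have h5 : B ≤ A := by rw [h4]; exact le_sup_right
  exact (Subgroup.eq_of_le_of_card_ge h5 (h.card_eq hA hB).le).symm

omit [Finite X] [Finite V] hp in
theorem fx_inv {n : X} (hn : n ∈ Subgroup.normalizer (D : Set X)) {v : V} (hv : v ∈ fx V D) : n • v ∈ fx V D := by
  have := smul_mem_fx_cj (g := n) hv
  rwa [cj_eq_iff_mem_normalizer.2 hn] at this

variable (h : Hyp0 p V pt 𝒟) (c : Cfg p pt 𝒟 D)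
include h c

/-! ### pairs -/

section pair

variable {B C : Subgroup X} (hB : B ∈ AN 𝒟 D) (hC : C ∈ AN 𝒟 D) (hne : pp pt D C ≠ pp pt D B)
include hB hC hne

/-- cardinalities -/
theorem pair_basic : fx V D ⊔ (fx V B ⊓ fx V C) = ⊤ ∧
    Nat.card (fx V D) = Nat.card B * Nat.card B * Nat.card (fx V D ⊓ fx V B ⊓ fx V C : AddSubgroup V) ∧
    ∀ b ∈ B, b ≠ 1 → ∀ v ∈ fx V D, b • v - v ∈ fx V D ⊓ fx V B ⊓ fx V C → v ∈ fx V B := by
  obtain ⟨F, hF, hFY⟩ := exists_mn hB hC hne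
  obtain ⟨V₁, V₂, AB, o⟩ := out h c hF
  set W : AddSubgroup V := fx V D ⊓ fx V B ⊓ fx V C with hW
  set cBC : AddSubgroup V := fx V B ⊓ fx V C with hcBC
  set q := Nat.card B with hq
  have hWe : W = fx V D ⊓ cBC := by rw [hW, hcBC, inf_assoc]
  have hWY : ∀ w ∈ W, ∀ y ∈ D ⊔ B ⊔ C, y • w = w := by
    intro w hw y hy
    have : w ∈ fx V (D ⊔ B ⊔ C) := by rw [fx_sup, fx_sup]; exact hw
    exact this y hy
  have hV1W : V₁ ⊓ W ≤ V₂ := by
    intro v hv
    apply o.fix v hv.1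
    intro y hy
    exact hWY v hv.2 y ((sup_le le_sup_left hFY : D ⊔ B ⊔ F ≤ D ⊔ B ⊔ C) hy)
  -- |V₁| = q² |V₂|
  have c3 : Nat.card V₁ = q * q * Nat.card V₂ := by
    have := o.c2
    rw [o.c1] at this
    apply Nat.eq_of_mul_eq_mul_right (card_pos V₂)
    rw [this]; ring
  -- lower bound
  have e1 := card_sup_inf V₁ W
  have hV1W' : V₁ ⊔ W ≤ fx V D := sup_le o.le1 (by rw [hWe]; exact inf_le_left)
  have hlow : q * q * Nat.card W ≤ Nat.card (fx V D) := by
    apply Nat.le_of_mul_le_mul_right _ (card_pos V₂)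
    calc q * q * Nat.card W * Nat.card V₂ = Nat.card V₁ * Nat.card W := by rw [c3]; ring
      _ = Nat.card (V₁ ⊔ W : AddSubgroup V) * Nat.card (V₁ ⊓ W : AddSubgroup V) := e1.symm
      _ ≤ Nat.card (fx V D) * Nat.card V₂ := Nat.mul_le_mul (card_le hV1W') (card_le hV1W)
  -- upper bound
  have hVB : q * Nat.card (fx V B) = Nat.card V := mm_eq h c hB.1
  have hVC : q * Nat.card (fx V C) = Nat.card V := by
    rw [hq, h.card_eq hB.1 hC.1]; exact mm_eq h c hC.1
  have e2 := card_sup_inf (fx V B) (fx V C)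
  have hVpos : 0 < Nat.card V := Nat.card_pos
  have hup1 : Nat.card V ≤ q * q * Nat.card cBC := by
    apply Nat.le_of_mul_le_mul_left _ hVpos
    calc Nat.card V * Nat.card V = q * q * (Nat.card (fx V B) * Nat.card (fx V C)) := by
          nth_rewrite 1 [← hVB]; rw [← hVC]; ring
      _ = q * q * (Nat.card (fx V B ⊔ fx V C : AddSubgroup V) * Nat.card cBC) := by rw [e2]
      _ ≤ q * q * (Nat.card V * Nat.card cBC) :=
          Nat.mul_le_mul_left _ (Nat.mul_le_mul_right _ (card_le_top _))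
      _ = _ := by ring
  have e3 := card_sup_inf (fx V D) cBC
  rw [← hWe] at e3
  -- |fx D| |cBC| = |sup| |W| ≤ |V| |W| ≤ q² |cBC| |W|
  have hup : Nat.card (fx V D) ≤ q * q * Nat.card W := by
    apply Nat.le_of_mul_le_mul_right _ (card_pos cBC)
    calc Nat.card (fx V D) * Nat.card cBC = Nat.card (fx V D ⊔ cBC : AddSubgroup V) * Nat.card W := e3.symm
      _ ≤ Nat.card V * Nat.card W := Nat.mul_le_mul_right _ (card_le_top _)
      _ ≤ q * q * Nat.card cBC * Nat.card W := Nat.mul_le_mul_right _ hup1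
      _ = _ := by ring
  have hD : Nat.card (fx V D) = q * q * Nat.card W := le_antisymm hup hlow
  have hsup : fx V D ⊔ cBC = ⊤ := by
    apply eq_of_card_le le_top
    rw [card_top]
    apply Nat.le_of_mul_le_mul_right _ (card_pos W)
    rw [e3, hD]
    calc Nat.card V * Nat.card W ≤ q * q * Nat.card cBC * Nat.card W := Nat.mul_le_mul_right _ hup1
      _ = _ := by ring
  -- V₁ ⊔ W = fx D, V₁ ⊓ W = V₂
  have e4 : Nat.card (V₁ ⊔ W : AddSubgroup V) * Nat.card (V₁ ⊓ W : AddSubgroup V) = Nat.card (fx V D) * Nat.card V₂ := by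
    rw [e1, c3, hD]; ring
  have hV1Weq : V₁ ⊔ W = fx V D := by
    apply eq_of_card_le hV1W'
    apply Nat.le_of_mul_le_mul_right _ (card_pos V₂)
    rw [← e4]; exact Nat.mul_le_mul_left _ (card_le hV1W)
  have hV2eq : V₁ ⊓ W = V₂ := by
    apply eq_of_card_le hV1W
    rw [hV1Weq] at e4
    exact (Nat.eq_of_mul_eq_mul_left (card_pos _) e4).ge
  refine ⟨hsup, hD, ?_⟩
  intro b hb hb1 v hv hbv
  rw [← hV1Weq] at hv
  obtain ⟨v₁, hv₁, w, hw, rfl⟩ := mem_sup hv
  have hbw : b • w = w := hWY w hw b ((le_sup_right.trans le_sup_left : B ≤ D ⊔ B ⊔ C) hb)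
  have h1 : b • v₁ - v₁ ∈ V₂ := by
    rw [← hV2eq]
    refine AddSubgroup.mem_inf.2
      ⟨V₁.sub_mem (o.inv1 b ((le_sup_right.trans le_sup_left : B ≤ D ⊔ B ⊔ F) hb) v₁ hv₁) hv₁, ?_⟩
    rw [smul_add, hbw] at hbv
    convert hbv using 1; abel
  have h2 := o.ti b hb hb1 v₁ hv₁ h1
  refine (fx V B).add_mem h2 ?_
  have h3 : w ∈ fx V D ⊓ cBC := by rw [← hWe]; exact hw
  exact h3.2.1

theorem sup_eq : fx V D ⊔ (fx V B ⊓ fx V C) = ⊤ := (pair_basic h c hB hC hne).1

theorem mem_sup' (v : V) : ∃ d ∈ fx V D, ∃ u : V, u ∈ fx V B ∧ u ∈ fx V C ∧ d + u = v := by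
  have : v ∈ fx V D ⊔ (fx V B ⊓ fx V C) := by rw [sup_eq h c hB hC hne]; trivial
  obtain ⟨d, hd, u, hu, e⟩ := mem_sup this
  exact ⟨d, hd, u, hu.1, hu.2, e⟩

/-- `[V, B] ≤ C_V(D)` -/
theorem comm_mem {b : X} (hb : b ∈ B) (v : V) : b • v - v ∈ fx V D := by
  obtain ⟨d, hd, u, hu, _, rfl⟩ := mem_sup' h c hB hC hne v
  have e : b • (d + u) - (d + u) = b • d - d := by rw [smul_add, hu b hb]; abel
  rw [e]
  exact (fx V D).sub_mem (fx_inv (hB.2.1 hb) hd) hd

/-- (P3) -/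
theorem p3 {b : X} (hb : b ∈ B) {v : V} (hv : b • v - v ∈ fx V C) : b • v = v := by
  by_cases hb1 : b = 1
  · rw [hb1, one_smul]
  obtain ⟨d, hd, u, hu, _, rfl⟩ := mem_sup' h c hB hC hne v
  have e : b • (d + u) - (d + u) = b • d - d := by rw [smul_add, hu b hb]; abel
  rw [e] at hv
  have h1 : d ∈ fx V B := by
    apply (pair_basic h c hB hC hne).2.2 b hb hb1 d hd
    refine ⟨⟨(fx V D).sub_mem (fx_inv (hB.2.1 hb) hd) hd, ?_⟩, hv⟩
    exact fun b' hb' => h.quad B hB.1 b hb b' hb' d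
  rw [smul_add, hu b hb, h1 b hb]

end pair

/-! ### the two hyperplane-like subgroups -/

theorem halves {B C : Subgroup X} (hB : B ∈ AN 𝒟 D) (hC : C ∈ AN 𝒟 D) (hne : pp pt D C ≠ pp pt D B) :
    (fx V D ⊓ fx V B) ⊔ (fx V D ⊓ fx V C) = fx V D ∧
    Nat.card (fx V D ⊓ fx V B : AddSubgroup V) =
      Nat.card B * Nat.card (fx V D ⊓ fx V B ⊓ fx V C : AddSubgroup V) ∧
    Nat.card (fx V D ⊓ fx V C : AddSubgroup V) =
      Nat.card B * Nat.card (fx V D ⊓ fx V B ⊓ fx V C : AddSubgroup V) := by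
  obtain ⟨_, hD, _⟩ := pair_basic h c hB hC hne
  set W : AddSubgroup V := fx V D ⊓ fx V B ⊓ fx V C with hW
  set q := Nat.card B with hq
  have hVB : q * Nat.card (fx V B) = Nat.card V := mm_eq h c hB.1
  have hVC : q * Nat.card (fx V C) = Nat.card V := by
    rw [hq, h.card_eq hB.1 hC.1]; exact mm_eq h c hC.1
  set HB : AddSubgroup V := fx V D ⊓ fx V B with hHB
  set HC : AddSubgroup V := fx V D ⊓ fx V C with hHC
  have hWe : HB ⊓ HC = W := by
    rw [hW, hHB, hHC]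
    apply le_antisymm
    · exact le_inf inf_le_left (inf_le_right.trans inf_le_right)
    · exact le_inf inf_le_left (le_inf (inf_le_left.trans inf_le_left) inf_le_right)
  have hqpos : 0 < q := Nat.card_pos
  have hlow : ∀ F : Subgroup X, q * Nat.card (fx V F) = Nat.card V →
      Nat.card (fx V D) ≤ q * Nat.card (fx V D ⊓ fx V F : AddSubgroup V) := by
    intro F hF
    have e := card_sup_inf (fx V D) (fx V F)
    apply Nat.le_of_mul_le_mul_right _ (card_pos (fx V F))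
    rw [← e]
    calc Nat.card (fx V D ⊔ fx V F : AddSubgroup V) * Nat.card (fx V D ⊓ fx V F : AddSubgroup V)
        ≤ Nat.card V * Nat.card (fx V D ⊓ fx V F : AddSubgroup V) := Nat.mul_le_mul_right _ (card_le_top _)
      _ = _ := by rw [← hF]; ring
  have h1 := hlow B hVB
  have h2 := hlow C hVC
  rw [hD] at h1 h2
  have h1' : q * Nat.card W ≤ Nat.card HB := by
    apply Nat.le_of_mul_le_mul_left _ hqpos
    rw [← mul_assoc]; exact h1
  have h2' : q * Nat.card W ≤ Nat.card HC := by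
    apply Nat.le_of_mul_le_mul_left _ hqpos
    rw [← mul_assoc]; exact h2
  have e := card_sup_inf HB HC
  rw [hWe] at e
  have hsup : HB ⊔ HC ≤ fx V D := sup_le inf_le_left inf_le_left
  -- |HB| |HC| ≤ |fx D| |W| = q² |W|²
  have h3 : Nat.card HB * Nat.card HC ≤ (q * Nat.card W) * (q * Nat.card W) := by
    rw [← e]
    calc Nat.card (HB ⊔ HC : AddSubgroup V) * Nat.card W ≤ Nat.card (fx V D) * Nat.card W :=
          Nat.mul_le_mul_right _ (card_le hsup)
      _ = _ := by rw [hD]; ring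
  have hpos : 0 < q * Nat.card W := Nat.mul_pos hqpos (card_pos W)
  have h4 : Nat.card HB = q * Nat.card W := by
    apply le_antisymm _ h1'
    apply Nat.le_of_mul_le_mul_right _ hpos
    exact (Nat.mul_le_mul_left _ h2').trans h3
  have h5 : Nat.card HC = q * Nat.card W := by
    apply le_antisymm _ h2'
    apply Nat.le_of_mul_le_mul_left _ hpos
    exact (Nat.mul_le_mul_right _ h1').trans h3
  refine ⟨?_, h4, h5⟩
  apply eq_of_card_le hsup
  apply Nat.le_of_mul_le_mul_right _ (card_pos W)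
  rw [e, h4, h5, hD]
  apply le_of_eq; ring

/-- half of the covering lemma -/
theorem cover_half {B C : Subgroup X} (hB : B ∈ AN 𝒟 D) (hC : C ∈ AN 𝒟 D) (hne : pp pt D C ≠ pp pt D B)
    {W₁ : AddSubgroup V} (h1 : W₁ ≤ fx V D) (hinv : Iv B W₁) {w : V} (hw : w ∈ W₁) (hwB : w ∉ fx V B) :
    fx V D ⊓ fx V B ≤ W₁ ⊔ (fx V D ⊓ fx V B ⊓ fx V C) := by
  obtain ⟨_, hD, h3⟩ := pair_basic h c hB hC hne
  obtain ⟨_, hHB, _⟩ := halves h c hB hC hne
  set W : AddSubgroup V := fx V D ⊓ fx V B ⊓ fx V C with hW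
  set HB : AddSubgroup V := fx V D ⊓ fx V B with hHBd
  have hWB : W ≤ HB := inf_le_left
  have hle : (W₁ ⊓ HB) ⊔ W ≤ HB := sup_le inf_le_right hWB
  have hcard : Nat.card B * Nat.card W ≤ Nat.card (⊥ : Subgroup X) * Nat.card ((W₁ ⊓ HB) ⊔ W : AddSubgroup V) := by
    apply card_fib le_sup_right (fun b => b • w - w)
    · intro b hb
      apply (le_sup_left : W₁ ⊓ HB ≤ (W₁ ⊓ HB) ⊔ W)
      refine ⟨W₁.sub_mem (hinv b hb w hw) hw, ?_, ?_⟩
      · exact (fx V D).sub_mem (fx_inv (hB.2.1 hb) (h1 hw)) (h1 hw)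
      · exact fun b' hb' => h.quad B hB.1 b hb b' hb' w
    · intro a ha b hb hab
      rw [Subgroup.mem_bot]
      by_contra hn
      apply hwB
      apply h3 _ (B.mul_mem (B.inv_mem hb) ha) hn w (h1 hw)
      have h4 : (a • w - b • w : V) ∈ W := by convert hab using 1; abel
      have h5 : b⁻¹ • (a • w - b • w) = a • w - b • w := h4.1.2 b⁻¹ (B.inv_mem hb)
      rw [smul_sub, smul_smul, inv_smul_smul] at h5
      rw [h5]; exact h4
  rw [Subgroup.card_bot, one_mul, ← hHB] at hcard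
  have h6 : (W₁ ⊓ HB) ⊔ W = HB := eq_of_card_le hle hcard
  rw [← h6]
  exact sup_le_sup_right inf_le_left W

/-- the covering lemma -/
theorem cover {B C : Subgroup X} (hB : B ∈ AN 𝒟 D) (hC : C ∈ AN 𝒟 D) (hne : pp pt D C ≠ pp pt D B)
    {W₁ : AddSubgroup V} (h1 : W₁ ≤ fx V D) (hinvB : Iv B W₁) (hinvC : Iv C W₁) (hn : ¬ W₁ ≤ fx V B ⊓ fx V C) :
    fx V D ≤ W₁ ⊔ (fx V D ⊓ fx V B ⊓ fx V C) := by
  have hsymm : fx V D ⊓ fx V C ⊓ fx V B = fx V D ⊓ fx V B ⊓ fx V C := inf_right_comm _ _ _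
  have key1 : (∃ w ∈ W₁, w ∉ fx V B) → fx V D ⊓ fx V B ≤ W₁ ⊔ (fx V D ⊓ fx V B ⊓ fx V C) := by
    rintro ⟨w, hw, hwB⟩
    exact cover_half h c hB hC hne h1 hinvB hw hwB
  have key2 : (∃ w ∈ W₁, w ∉ fx V C) → fx V D ⊓ fx V C ≤ W₁ ⊔ (fx V D ⊓ fx V B ⊓ fx V C) := by
    rintro ⟨w, hw, hwC⟩
    have := cover_half h c hC hB (Ne.symm hne) h1 hinvC hw hwC
    rwa [hsymm] at this
  obtain ⟨hsup, hHB, hHC⟩ := halves h c hB hC hne
  have h2 : 2 ≤ Nat.card B := h.two_le hB.1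
  have hpos := card_pos (fx V D ⊓ fx V B ⊓ fx V C : AddSubgroup V)
  have imp1 : (∃ w ∈ W₁, w ∉ fx V B) → ∃ w ∈ W₁, w ∉ fx V C := by
    intro hw
    have h3 := key1 hw
    by_contra hcon
    push Not at hcon
    have h4 : fx V D ⊓ fx V B ≤ fx V C := h3.trans (sup_le hcon inf_le_right)
    have h5 := card_le (le_inf le_rfl h4 : fx V D ⊓ fx V B ≤ fx V D ⊓ fx V B ⊓ fx V C)
    rw [hHB] at h5
    nlinarith
  have imp2 : (∃ w ∈ W₁, w ∉ fx V C) → ∃ w ∈ W₁, w ∉ fx V B := by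
    intro hw
    have h3 := key2 hw
    by_contra hcon
    push Not at hcon
    have h4 : fx V D ⊓ fx V C ≤ fx V B := h3.trans (sup_le hcon (inf_le_left.trans inf_le_right))
    have h5 := card_le (le_inf le_rfl h4 : fx V D ⊓ fx V C ≤ fx V D ⊓ fx V C ⊓ fx V B)
    rw [hsymm, hHC] at h5
    nlinarith
  have hex : ∃ w ∈ W₁, w ∉ fx V B := by
    obtain ⟨w, hw, hw2⟩ := Set.not_subset.1 hn
    by_cases hwB : w ∈ fx V B
    · apply imp2
      refine ⟨w, hw, fun hwC => hw2 ⟨hwB, hwC⟩⟩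
    · exact ⟨w, hw, hwB⟩
  nth_rewrite 1 [← hsup]
  exact sup_le (key1 hex) (key2 (imp1 hex))

end Cfsg.Agent.H263.FF.Pair
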